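import Cfsg.Agent.Lib.Recog.SporBound.Sound
import Cfsg.Agent.Lib.Recog.SporBound.U43Top.Tree0
import Cfsg.Agent.Lib.Recog.SporBound.U43Top.Tree1
import Cfsg.Agent.Lib.Recog.SporBound.U43Top.Tree2

set_option autoImplicit false
set_option maxRecDepth 20000

/-! Generated closure certificate: U4(3) over the centralizer of an involution (owner: lead). -/

namespace CfsgLib.Recog.SporBound.U43Top
open CfsgLib.Recog.SporBound

noncomputable def factTree : Q (ℕ) := (.node (.node ft7 ft15 ft23 ft30) (.node ft38 ft46 ft54 ft61) (.node ft69 ft77 ft84 ft91) (.node ft99 ft107 ft114 ft121))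
noncomputable def nodeTree : Q (ℕ) := (.node ct6 ct13 ct20 ct26)
noncomputable def stepTree : Q (List ℕ) := (.node (.node st8 st17 st26 st35) (.node st44 st53 st62 st70) (.node st79 st88 st97 st105) (.node st114 st123 st132 st140))
noncomputable def finalTree : Q (List ℕ) := (.node (.node (.node et5 et10 et15 et20) (.node et26 et31 et36 et41) (.node et47 et52 et57 et62) (.node et67 et72 et77 et82)) (.node (.node et88 et93 et98 et103) (.node et109 et114 et119 et124) (.node et130 et135 et140 et145) (.node et150 et155 et160 et165)) (.node (.node et171 et176 et181 et186) (.node et192 et197 et202 et207) (.node et212 et217 et222 et227) (.node et232 et237 et242 et247)) (.node (.node et253 et258 et263 et268) (.node et274 et279 et284 et289) (.node et294 et299 et304 et309) (.node et314 et319 et324 et329)))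

/-- The certificate. -/
noncomputable def cert : Cert where
  n := 2835
  nd := 5491
  nf := 13473
  kl := [0, 1, 2, 3, 4, 5]
  facts := factTree
  cn := nodeTree
  steps := stepTree
  finals := finalTree
  rels := [[0, 0], [1, 1], [2, 2], [3, 3], [4, 4], [5, 5], [1, 0, 4, 1, 4, 0], [1, 3, 0, 3, 1, 0], [0, 2, 3, 0, 4, 3, 4], [1, 0, 3, 1, 3, 1, 3, 0], [1, 4, 0, 4, 0, 4, 1, 0], [1, 2, 0, 1, 2, 0, 1, 2, 1, 0, 2, 0], [5, 0, 1, 0, 1, 5, 4, 2, 1, 2, 4, 1], [5, 1, 4, 2, 1, 2, 4, 5, 1, 0, 1, 0], [5, 0, 1, 4, 2, 4, 1, 5, 4, 2, 1, 4, 1], [5, 1, 4, 1, 2, 4, 5, 1, 4, 2, 4, 1, 0], [5, 0, 1, 0, 1, 5, 4, 2, 1, 2, 4, 1], [5, 1, 4, 2, 1, 2, 4, 5, 1, 0, 1, 0], [5, 0, 1, 2, 1, 2, 0, 1, 5, 1, 0, 2, 1, 2, 1, 0], [5, 0, 1, 2, 1, 2, 0, 5, 1], [5, 2, 5, 2, 5, 2], [3, 5, 3, 5, 3, 5, 3, 5, 3, 5], [1, 3, 5, 3, 5, 1, 3, 5, 3, 5, 1, 3, 5, 3, 5, 1, 3, 5, 3, 5, 1, 3, 5, 3, 5], [2, 5, 2, 5, 2, 5], [4, 5, 4, 5, 4, 5,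 4, 5, 4, 5], [5, 4, 5, 2, 4, 5, 4, 5, 2, 4, 5, 4, 5, 2, 4, 5, 4, 5, 2, 4, 5, 4, 5, 2, 4], [0, 5, 0, 1, 3, 5, 1, 0, 2, 1, 4, 1, 1, 5, 3, 1, 0, 5, 0, 0, 2, 1, 4, 1, 0, 5, 0, 1, 3, 5, 1, 1, 4, 1, 2, 0, 1, 5, 3, 1, 0, 5, 0, 1, 4, 1, 2, 0]]
  subs := [[0], [1], [2], [3], [4]]

/-- Chains of the traced words. -/
noncomputable def closers : List ℕ := []

end CfsgLib.Recog.SporBound.U43Top
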