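import Cfsg.Agent.Lib.Recog.SporBound.U43Top.Part0
import Cfsg.Agent.Lib.Recog.SporBound.U43Top.Part1
import Cfsg.Agent.Lib.Recog.SporBound.U43Top.Part2
import Cfsg.Agent.Lib.Recog.SporBound.U43Top.Part3

set_option autoImplicit false
set_option maxRecDepth 20000

/-! The certificate is valid. -/

namespace CfsgLib.Recog.SporBound.U43Top
open CfsgLib.Recog.SporBound
open CfsgLib.ThreeTrans.CosetIndex (forallFrom)

theorem defs_all : forallFrom cert.defOK 0 (cert.nd) = true := by
  have h0 := defs0
  have h1 : forallFrom cert.defOK 0 3000 = true := forallFrom_cat h0 defs1 (by decide +kernel) (by decide +kernel)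
  have h2 : forallFrom cert.defOK 0 4500 = true := forallFrom_cat h1 defs2 (by decide +kernel) (by decide +kernel)
  have h3 : forallFrom cert.defOK 0 5491 = true := forallFrom_cat h2 defs3 (by decide +kernel) (by decide +kernel)
  exact (show 5491 = cert.nd by decide +kernel) ▸ h3

theorem steps_all : cert.stepsPart 0 (cert.stepChunks) = true := by
  have h0 := steps0
  have h1 : cert.stepsPart 0 40 = true := Cert.stepsPart_cat h0 steps1 (by decide +kernel) (by decide +kernel)
  have h2 : cert.stepsPart 0 60 = true := Cert.stepsPart_cat h1 steps2 (by decide +kernel) (by decide +kernel)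
  have h3 : cert.stepsPart 0 80 = true := Cert.stepsPart_cat h2 steps3 (by decide +kernel) (by decide +kernel)
  have h4 : cert.stepsPart 0 100 = true := Cert.stepsPart_cat h3 steps4 (by decide +kernel) (by decide +kernel)
  have h5 : cert.stepsPart 0 120 = true := Cert.stepsPart_cat h4 steps5 (by decide +kernel) (by decide +kernel)
  have h6 : cert.stepsPart 0 125 = true := Cert.stepsPart_cat h5 steps6 (by decide +kernel) (by decide +kernel)
  exact (show 125 = cert.stepChunks by decide +kernel) ▸ h6

theorem finals_all : cert.finalsPart 0 (cert.finalChunks) = true := by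
  have h0 := finals0
  have h1 : cert.finalsPart 0 266 = true := Cert.finalsPart_cat h0 finals1 (by decide +kernel) (by decide +kernel)
  exact (show 266 = cert.finalChunks by decide +kernel) ▸ h1

theorem ok : cert.OK where
  base := by decide +kernel
  defs := defs_all
  steps := steps_all
  finals := finals_all

end CfsgLib.Recog.SporBound.U43Top
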